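import Mathlib
import Cfsg.Agent.H364.DCross

/-!
# `PΩ⁺(2n, q)`, `n` even: what is known about the simple factor (helper60, S3677)

`K` is the largest normal subgroup of `G` of order prime to all primes `r` with `orderOf (q : ZMod r) = d`, `S` the simple
normal subgroup of `G/K`, `MS = |S|`, `I = |G/K : S|`; the centralizer orders of the elements of these orders `r` are `m`
(odd).
-/

set_option autoImplicit false

namespace Cfsg.Agent.H60.DE

open Cfsg.Agent.H902.Lte Cfsg.Agent.H902.Art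

/-- the two cases -/
def Num (n q d m : ℕ) : Prop :=
  (d = 2 * (n - 1) ∧ m * Nat.gcd 4 (q ^ n - 1) = (q ^ (n - 1) + 1) * (q + 1) ∧ (q % 4 = 1 ∨ (q % 2 = 0 ∧ 4 ≤ q))) ∨
    (d = n - 1 ∧ m * Nat.gcd 4 (q ^ n - 1) = (q ^ (n - 1) - 1) * (q - 1) ∧ (q % 4 = 3 ∨ q = 2))

/-- what is known about the simple factor, `MS = |S|`, `I` the index -/
structure Dat (n p f M d m MS I : ℕ) : Prop where
  hn : 4 ≤ n
  hev : n % 2 = 0
  hY : Real (.D n) p f M
  num : Num n (p ^ f) d m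
  hMS : MS ∣ M
  hI0 : 0 < I
  /-- the primes not dividing `p m` do not divide `|K|` -/
  big : ∀ t : ℕ, t.Prime → t ≠ p → ¬ t ∣ m → ¬ (p ^ f = 2 ∧ t = 3) → ¬ (p ^ f = 3 ∧ t = 2) → P t M ∣ I * MS
  /-- the perfect primes do not divide `|K|` -/
  per : ∀ r : ℕ, r.Prime → orderOf ((p ^ f : ℕ) : ZMod r) = d → P r M ∣ I * MS
  ex : ∃ r : ℕ, r.Prime ∧ orderOf ((p ^ f : ℕ) : ZMod r) = d ∧ r ∣ MS

end Cfsg.Agent.H60.DE
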