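import Mathlib
import Cfsg.Agent.H429.CS.KLat
import Cfsg.Agent.H881.CS.HBig
import Cfsg.Agent.H881.CS.PartLe
import Cfsg.Agent.H402.CS.PlusMin
import Cfsg.Agent.H286.CS.PTor
import Cfsg.Agent.H286.CS.PSub
import Cfsg.Agent.H237.PL.Even
import Cfsg.Agent.H60.DE.Arith
import Cfsg.Agent.H360.Dp.Base
import Cfsg.Agent.H364.ArithU

/-!
# `PΩ⁺(2n, q)`, `n` even: the simple factor of a group with the same order and class sizes (helper60, S3677)
-/

set_option autoImplicit false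

namespace Cfsg.Agent.H60.DE

open Subgroup Cfsg Cfsg.Agent.H364 Cfsg.Agent.H370.AAM Cfsg.Agent.H429.CS Cfsg.Agent.H431.CS
open Cfsg.Agent.H902.Lte Cfsg.Agent.H902.Art

universe u v

/-- the data -/
structure KS (G : Type u) [Group G] [Finite G] (n p f d m : ℕ) (K : Subgroup G) [K.Normal] (H : Subgroup (G ⧸ K)) :
    Prop where
  normal : H.Normal
  simple : IsSimpleGroup H
  nab : ¬ ∀ a b : H, a * b = b * a
  out : H.index ∣ Nat.card (Cfsg.Out H)
  card : Nat.card K * (H.index * Nat.card H) = Nat.card G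
  dat : Dat n p f (Nat.card G) d m (Nat.card H) H.index
  cs : ∀ r : ℕ, r.Prime → orderOf ((p ^ f : ℕ) : ZMod r) = d → ∀ y : H, orderOf y = r →
    Nat.card (centralizer ({y} : Set H)) ∣ m
  coK : ∀ r : ℕ, r.Prime → orderOf ((p ^ f : ℕ) : ZMod r) = d → ¬ r ∣ Nat.card K
  edge : ∀ r : ℕ, r.Prime → orderOf ((p ^ f : ℕ) : ZMod r) = d → NoEdge G r p
  cm : ∀ r : ℕ, r.Prime → orderOf ((p ^ f : ℕ) : ZMod r) = d → ∀ y : G, orderOf y = r →
    Nat.card (centralizer ({y} : Set G)) = m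
  solv : Group.IsSolvable K
  mu : ∀ x : G, x ≠ 1 → (p ^ f) ^ (2 * (n - 1)) + 1 ≤ (centralizer ({x} : Set G)).index
  tK : ∀ t : ℕ, t.Prime → t ∣ Nat.card K → t = p ∨ t ∣ m ∨ (p ^ f = 2 ∧ t = 3) ∨ (p ^ f = 3 ∧ t = 2)
  lm : ∀ l : ℕ, l.Prime → l ∣ m → l ≠ p ∧ ¬ (p ^ f = 2 ∧ l = 3) ∧ ¬ (p ^ f = 3 ∧ l = 2)
  rG : ∀ r : ℕ, r.Prime → orderOf ((p ^ f : ℕ) : ZMod r) = d → r ≠ p ∧ r ∣ Nat.card G

theorem gcd_one {n q : ℕ} (hq : q % 2 = 0) (hq2 : 2 ≤ q) (hn : 4 ≤ n) : Nat.gcd 4 (q ^ n - 1) = 1 := by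
  have h1 : Nat.Coprime (2 ^ 2) (q ^ n - 1) := by
    apply Nat.Coprime.pow_left
    rw [Nat.coprime_two_left]
    have h2 : Even (q ^ n) := (Nat.even_iff.2 hq).pow_of_ne_zero (by omega)
    have h3 : 1 ≤ q ^ n := Nat.one_le_pow _ _ (by omega)
    exact Nat.Even.sub_odd h3 h2 odd_one
  exact h1

/-- the two cases exist -/
theorem exists_num {n q : ℕ} (hn : 4 ≤ n) (hq : 2 ≤ q) :
    (∃ d m, Num n q d m ∧ d = 2 * (n - 1) ∧ m = (q ^ (n - 1) + 1) * (q + 1) / Nat.gcd 4 (q ^ n - 1) ∧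
      (q % 4 = 1 ∨ (q % 2 = 0 ∧ 4 ≤ q))) ∨
    (∃ d m, Num n q d m ∧ d = n - 1 ∧ m = (q ^ (n - 1) - 1) * (q - 1) / Nat.gcd 4 (q ^ n - 1) ∧
      (q % 4 = 3 ∨ q = 2)) := by
  have h4 : ∀ a b : ℕ, 2 ∣ a → 2 ∣ b → Nat.gcd 4 (q ^ n - 1) ∣ a * b := by
    intro a b ha hb
    refine (Nat.gcd_dvd_left _ _).trans ?_
    have := Nat.mul_dvd_mul ha hb
    exact this
  have hodd : q % 2 = 1 → (q ^ (n - 1)) % 2 = 1 := fun h => by
    have := (Nat.odd_iff.2 h).pow (n := n - 1)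
    exact Nat.odd_iff.1 this
  have h1 : 1 ≤ q ^ (n - 1) := Nat.one_le_pow _ _ (by omega)
  by_cases hA : q % 4 = 1 ∨ (q % 2 = 0 ∧ 4 ≤ q)
  · left
    refine ⟨2 * (n - 1), _, Or.inl ⟨rfl, ?_, hA⟩, rfl, rfl, hA⟩
    apply Nat.div_mul_cancel
    rcases hA with h | ⟨h, h'⟩
    · have := hodd (by omega)
      exact h4 _ _ (by omega) (by omega)
    · rw [gcd_one h hq hn]; exact one_dvd _
  · right
    have hB : q % 4 = 3 ∨ q = 2 := by omega
    refine ⟨n - 1, _, Or.inr ⟨rfl, ?_, hB⟩, rfl, rfl, hB⟩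
    apply Nat.div_mul_cancel
    rcases hB with h | rfl
    · have := hodd (by omega)
      exact h4 _ _ (by omega) (by omega)
    · rw [gcd_one rfl le_rfl hn]; exact one_dvd _

theorem lm_of {n p f d m : ℕ} (hp : p.Prime) (hf : 1 ≤ f) (hn : 4 ≤ n) (hev : n % 2 = 0) (hN : Num n (p ^ f) d m) :
    ∀ l : ℕ, l.Prime → l ∣ m → l ≠ p ∧ ¬ (p ^ f = 2 ∧ l = 3) ∧ ¬ (p ^ f = 3 ∧ l = 2) := by
  have hq : 2 ≤ p ^ f := hp.two_le.trans (Nat.le_self_pow (by omega) p)
  intro l hl hlm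
  refine ⟨?_, ?_, ?_⟩
  · rintro rfl
    have hlq : l ∣ l ^ f := dvd_pow_self l (by omega)
    have hlq' : l ∣ (l ^ f) ^ (n - 1) := hlq.trans (dvd_pow_self _ (by omega))
    have h1 : 1 ≤ (l ^ f) ^ (n - 1) := Nat.one_le_pow _ _ (by omega)
    have key : ∀ a : ℕ, 1 ≤ a → l ∣ a → ¬ l ∣ a + 1 ∧ ¬ l ∣ a - 1 := by
      intro a ha hla
      constructor
      · intro h
        exact hl.one_lt.ne' (Nat.dvd_one.1 ((Nat.dvd_add_right hla).1 h))
      · intro h
        have h3 := Nat.dvd_sub hla h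
        rw [show a - (a - 1) = 1 by omega] at h3
        exact hl.one_lt.ne' (Nat.dvd_one.1 h3)
    rcases hN with ⟨-, hm, -⟩ | ⟨-, hm, -⟩
    · have h2 : l ∣ ((l ^ f) ^ (n - 1) + 1) * (l ^ f + 1) := by rw [← hm]; exact hlm.mul_right _
      rcases hl.dvd_mul.1 h2 with h3 | h3
      · exact (key _ h1 hlq').1 h3
      · exact (key _ (by omega) hlq).1 h3
    · have h2 : l ∣ ((l ^ f) ^ (n - 1) - 1) * (l ^ f - 1) := by rw [← hm]; exact hlm.mul_right _
      rcases hl.dvd_mul.1 h2 with h3 | h3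
      · exact (key _ h1 hlq').2 h3
      · exact (key _ (by omega) hlq).2 h3
  · rintro ⟨h2, rfl⟩
    rw [h2] at hN
    have hB : d = n - 1 := by
      rcases hN with ⟨-, -, h⟩ | ⟨h, -⟩
      · omega
      · exact h
    have h3 := (hN.ord_dvd le_rfl hlm hl).2 hB (by omega)
    have h4 : orderOf ((2 : ℕ) : ZMod 3) = 2 := by
      apply orderOf_eq_prime
      · decide
      · decide
    rw [h4] at h3
    omega
  · rintro ⟨h3, rfl⟩
    rw [h3] at hN
    rcases hN with ⟨-, -, h⟩ | ⟨-, hm, -⟩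
    · omega
    · have h4 : ∀ k : ℕ, 3 ^ (2 * k + 1) % 4 = 3 := by
        intro k
        induction k with
        | zero => rfl
        | succ k ih => rw [show 2 * (k + 1) + 1 = 2 * k + 1 + 2 by ring, pow_add]; omega
      have h5 : ∀ k : ℕ, 3 ^ (2 * k) % 8 = 1 := by
        intro k
        induction k with
        | zero => rfl
        | succ k ih => rw [show 2 * (k + 1) = 2 * k + 2 by ring, pow_add]; omega
      obtain ⟨k, hk⟩ : ∃ k, n - 1 = 2 * k + 1 := ⟨(n - 2) / 2, by omega⟩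
      have h6 := h5 (n / 2)
      rw [show 2 * (n / 2) = n by omega] at h6
      have h7 : Nat.gcd 4 (3 ^ n - 1) = 4 := Nat.gcd_eq_left (by omega)
      have h8 := h4 k
      rw [h7, hk] at hm
      generalize 3 ^ (2 * k + 1) = x at hm h8
      have h9 : m * 4 = (x - 1) * 2 := hm
      omega

/-- **The K-step.** -/
theorem exists_ks {G : Type u} [Group G] [Finite G] {F : Type v} [Field F] [Fintype F] {n : ℕ} (hS : Solv.{u})
    (hn : 4 ≤ n) (hev : Even n) (hG : Same G (POmega F (quadFormPlus n F))) :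
    ∃ p f d m, p.Prime ∧ 1 ≤ f ∧ Fintype.card F = p ^ f ∧ ∃ (K : Subgroup G) (_ : K.Normal) (H : Subgroup (G ⧸ K)),
      KS G n p f d m K H := by
  obtain ⟨p, f, hp, hf, hF⟩ := (isPrimePow_nat_iff _).1 (Fintype.isPrimePow_card_of_field (α := F))
  replace hF := hF.symm
  have hev' : n % 2 = 0 := Nat.even_iff.1 hev
  have hq : 2 ≤ p ^ f := hp.two_le.trans (Nat.le_self_pow (by omega) p)
  have hYS : Real (.D n) p f (Nat.card (POmega F (quadFormPlus n F))) := Cfsg.Agent.H360.Dp.oplus_real hp hf hF hn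
  have hY : Real (.D n) p f (Nat.card G) := by rw [hG.card]; exact hYS
  -- the lattices
  obtain ⟨d, m, hN, hlat, hd3, hex⟩ : ∃ d m, Num n (p ^ f) d m ∧
      (∀ r : ℕ, r.Prime → orderOf ((p ^ f : ℕ) : ZMod r) = d → Lat (POmega F (quadFormPlus n F)) p r m) ∧ 3 ≤ d ∧
      ¬ (p = 2 ∧ f * d = 6) := by
    rcases exists_num hn hq with ⟨d, m, h1, rfl, rfl, h4⟩ | ⟨d, m, h1, rfl, rfl, h4⟩
    · refine ⟨_, _, h1, fun r hr ho => Cfsg.Agent.H286.CS.lat_plus_sub hp hf hF hn hr ho (by omega), by omega, ?_⟩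
      rintro ⟨rfl, h6⟩
      have h7 : f = 1 := by
        by_contra hcon
        have : 2 * (2 * 3) ≤ f * (2 * (n - 1)) := Nat.mul_le_mul (by omega) (by omega)
        omega
      subst h7
      omega
    · refine ⟨_, _, h1, fun r hr ho => Cfsg.Agent.H237.PL.lat_plus_even hp hf hF hn hev h4 hr ho, by omega, ?_⟩
      rintro ⟨rfl, h6⟩
      have h5 : 2 ^ f = 2 := by
        rcases h4 with h4 | h4
        · have : 2 ∣ 2 ^ f := dvd_pow_self 2 (by omega)
          omega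
        · exact h4
      have h7 : f = 1 := by
        have : 2 ^ f = 2 ^ 1 := by rw [h5]; norm_num
        exact Nat.pow_right_injective le_rfl this
      subst h7
      omega
  have hrp : ∀ r : ℕ, r.Prime → orderOf ((p ^ f : ℕ) : ZMod r) = d → r ≠ p := by
    rintro r hr ho rfl
    have h1 : ((r ^ f : ℕ) : ZMod r) = 0 := by
      rw [ZMod.natCast_eq_zero_iff]; exact dvd_pow_self r (by omega)
    rw [h1] at ho
    have := Fact.mk hr
    have h2 : (0 : ZMod r) ^ d = 1 := by rw [← ho]; exact pow_orderOf_eq_one _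
    rw [zero_pow (by omega)] at h2
    exact zero_ne_one h2
  have hrG : ∀ r : ℕ, r.Prime → orderOf ((p ^ f : ℕ) : ZMod r) = d → r ∣ Nat.card G := fun r hr ho => by
    rw [hG.card]; exact (hlat r hr ho).rS
  -- the number `R`
  classical
  set R := ∏ r ∈ (Nat.card G).primeFactors.filter (fun r => orderOf ((p ^ f : ℕ) : ZMod r) = d), r with hR
  have hRd : ∀ r : ℕ, r.Prime → (r ∣ R ↔ orderOf ((p ^ f : ℕ) : ZMod r) = d) := by
    intro r hr
    constructor
    · intro h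
      obtain ⟨s, hs, hrs⟩ := (hr.prime.dvd_finsetProd_iff _).1 h
      rw [Finset.mem_filter, Nat.mem_primeFactors] at hs
      rw [(Nat.prime_dvd_prime_iff_eq hr hs.1.1).1 hrs]
      exact hs.2
    · intro h
      refine Finset.dvd_prod_of_mem (fun r => r) ?_
      rw [Finset.mem_filter, Nat.mem_primeFactors]
      exact ⟨⟨hr, hrG r hr h, Nat.card_pos.ne'⟩, h⟩
  have hR0 : 0 < R := Finset.prod_pos fun r hr => by
    rw [Finset.mem_filter, Nat.mem_primeFactors] at hr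
    exact hr.1.1.pos
  obtain ⟨r0, hr0, hr0p, hr0o⟩ := Cfsg.Agent.H364.ArithU.exists_ppd (p := p) (n := f * d) hp (by nlinarith) hex
  have hr0R : r0 ∣ R := (hRd r0 hr0).2 (ord_q hf hr0o)
  have hR1 : 1 < R := lt_of_lt_of_le hr0.one_lt (Nat.le_of_dvd hR0 hr0R)
  have hlm := lm_of hp hf hn hev' hN
  have hpart : ∀ t : ℕ, t.Prime → t ≠ p → ¬ (p ^ f = 2 ∧ t = 3) → ¬ (p ^ f = 3 ∧ t = 2) →
      t ^ (Nat.card (POmega F (quadFormPlus n F))).factorization t ≤ (p ^ f) ^ (2 * (n - 1)) := fun t ht h1 h2 h3 =>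
    Cfsg.Agent.H881.CS.PartLe.part_le hYS hev' ht h1 h2 h3
  have hmu : ∀ x : G, x ≠ 1 → (p ^ f) ^ (2 * (n - 1)) + 1 ≤ (centralizer ({x} : Set G)).index := fun x hx =>
    min_of_co hG (center_eq_bot hG (Cfsg.Agent.H286.CS.co_coprime hn hev)) (fun c hc h => by
      rw [← hF]; exact Cfsg.Agent.H402.CS.PlusMin.min_index hn c hc h) x hx
  have hexc : ∀ t : ℕ, t.Prime → (t ∣ m ∨ (p ^ f) ^ (2 * (n - 1)) + 1 <
      t ^ (Nat.card (POmega F (quadFormPlus n F))).factorization t) →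
      t = p ∨ t ∣ m ∨ (p ^ f = 2 ∧ t = 3) ∨ (p ^ f = 3 ∧ t = 2) := by
    intro t ht h
    rcases h with h | h
    · exact Or.inr (Or.inl h)
    · by_contra hcon
      simp only [not_or] at hcon
      have := hpart t ht hcon.1 hcon.2.2.1 hcon.2.2.2
      omega
  obtain ⟨K, hKn, H, hsec, hKt, hKc⟩ := H429.CS.main (m := m) (M := R) (μ := (p ^ f) ^ (2 * (n - 1)) + 1) hS hG hp hR1
    (fun r hr hrR => ⟨hrp r hr ((hRd r hr).1 hrR), hlat r hr ((hRd r hr).1 hrR)⟩) hmu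
    (fun l hl hlm' => by
      obtain ⟨h1, h2, h3⟩ := hlm l hl hlm'
      exact (hpart l hl h1 h2 h3).trans (Nat.le_succ _))
    (fun N hNd hNc hNt r hr hrR a ha1 ha2 =>
      Cfsg.Agent.H881.CS.HBig.hbig hYS hev' hN hNd (fun t ht htN => hexc t ht (hNt t ht htN)) hr
        ((hRd r hr).1 hrR) ha1 ha2)
  have hpp : ∀ r : ℕ, r.Prime → orderOf ((p ^ f : ℕ) : ZMod r) = d → PP G r m := fun r hr ho =>
    PP.of_lat (hlat r hr ho) hr hp (hrp r hr ho) hG
  have hcoK : ∀ r : ℕ, r.Prime → orderOf ((p ^ f : ℕ) : ZMod r) = d → ¬ r ∣ Nat.card K := by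
    intro r hr ho h1
    exact (Nat.Prime.coprime_iff_not_dvd hr).1 (Nat.Coprime.coprime_dvd_left h1 hsec.coK) ((hRd r hr).2 ho)
  have hcard := hsec.card
  have hpartdvd : ∀ t : ℕ, t.Prime → ¬ t ∣ Nat.card K → P t (Nat.card G) ∣ H.index * Nat.card H := by
    intro t ht htK
    have h1 : P t (Nat.card G) ∣ Nat.card K * (H.index * Nat.card H) := by
      rw [hcard]; exact Nat.ordProj_dvd _ _
    exact (Nat.Coprime.pow_left _ ((Nat.Prime.coprime_iff_not_dvd ht).2 htK)).dvd_of_dvd_mul_left h1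
  refine ⟨p, f, d, m, hp, hf, hF, K, hKn, H, ?_⟩
  have hHn := hsec.normal
  have hcs : ∀ r : ℕ, r.Prime → orderOf ((p ^ f : ℕ) : ZMod r) = d → ∀ y : H, orderOf y = r →
      Nat.card (centralizer ({y} : Set H)) ∣ m := by
    intro r hr ho y hy
    have hy' : orderOf (y : G ⧸ K) = r := by rw [Subgroup.orderOf_coe]; exact hy
    refine dvd_trans ?_ (((hpp r hr ho).quotient K (hcoK r hr ho)).cent _ hy')
    have hle : (centralizer ({y} : Set H)).map H.subtype ≤ centralizer ({(y : G ⧸ K)} : Set (G ⧸ K)) := by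
      rintro _ ⟨x, hx, rfl⟩
      rw [SetLike.mem_coe, mem_centralizer_singleton_iff] at hx
      rw [mem_centralizer_singleton_iff]
      exact congrArg Subtype.val hx
    have h1 : Nat.card ((centralizer ({y} : Set H)).map H.subtype) = Nat.card (centralizer ({y} : Set H)) :=
      Subgroup.card_map_of_injective H.subtype_injective
    rw [← h1]
    exact Subgroup.card_dvd_of_le hle
  have htK : ∀ t : ℕ, t.Prime → t ∣ Nat.card K → t = p ∨ t ∣ m ∨ (p ^ f = 2 ∧ t = 3) ∨ (p ^ f = 3 ∧ t = 2) :=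
    fun t ht htK => hexc t ht (hKt t ht htK)
  refine
    { normal := hHn
      simple := hsec.simple
      nab := hsec.nab
      out := hsec.out
      card := hcard
      dat := ?_
      cs := hcs
      coK := hcoK
      edge := fun r hr ho => (hlat r hr ho).toLatW.noEdge hr hp (hrp r hr ho) hG
      cm := fun r hr ho y hy => (hlat r hr ho).card_cent hr hp (hrp r hr ho) hG (hy ▸ dvd_rfl)
      solv := (hpp r0 hr0 (ord_q hf hr0o)).solv hS K (hcoK r0 hr0 (ord_q hf hr0o))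
      mu := hmu
      tK := htK
      lm := hlm
      rG := fun r hr ho => ⟨hrp r hr ho, hrG r hr ho⟩ }
  refine
    { hn := hn
      hev := hev'
      hY := hY
      num := hN
      hMS := ?_
      hI0 := Nat.pos_of_ne_zero Subgroup.index_ne_zero_of_finite
      big := ?_
      per := fun r hr ho => hpartdvd r hr (hcoK r hr ho)
      ex := ?_ }
  · rw [← hcard]
    exact (Dvd.intro_left _ rfl : Nat.card H ∣ H.index * Nat.card H).mul_left _
  · intro t ht htp htm h2 h3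
    refine hpartdvd t ht fun h => ?_
    rcases htK t ht h with h | h | h | h
    · exact htp h
    · exact htm h
    · exact h2 h
    · exact h3 h
  · obtain ⟨r, hr, h1, h2⟩ := Nat.Prime.not_coprime_iff_dvd.1 hsec.coH
    exact ⟨r, hr, (hRd r hr).1 h2, h1⟩

end Cfsg.Agent.H60.DE
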